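import Groth.Prelude.Def_Coh
import Mathlib.Algebra.Category.ModuleCat.Sheaf.ChangeOfRings
import Mathlib.CategoryTheory.Sites.Whiskering
import Mathlib.Topology.Sheaves.Functors
import Mathlib.AlgebraicGeometry.Morphisms.Affine
import Mathlib.AlgebraicGeometry.Sites.SmallAffineZariski
import Groth.Agent.CohqB.QC2
import Groth.Agent.CohqB.RelSpec

/-!
# Relative spectrum of a quasi-coherent sheaf of algebras

For a sheaf of commutative rings `B` on a scheme `S` with a map `φ : O_S ⟶ B` making `B` a
quasi-coherent module, the restriction of `φ` to the small affine Zariski site is coequifibered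
(`coequifibered`), and the relative spectrum `CohqB.RelSpec.obj` has direct image `B`
(`sheafIso`, `comp_sheafIso`).
-/

set_option autoImplicit false
universe u
open CategoryTheory AlgebraicGeometry TopologicalSpace Opposite

namespace Groth.Agent.Ega2.H280.RelSpecAlg

open Groth.Agent.CohqB AlgebraicGeometry.Scheme.AffineZariskiSite

variable {S : Scheme.{u}} (B : Sheaf (Opens.grothendieckTopology S) CommRingCat.{u})
  (φ : S.sheaf ⟶ B)

/-- The underlying `O_S`-module of an `O_S`-algebra. -/
noncomputable def modOf : S.Modules := (SheafOfModules.restrictScalars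
      ((sheafCompose (Opens.grothendieckTopology S) (forget₂ CommRingCat.{u} RingCat.{u})).map φ)).obj
      (SheafOfModules.unit ((sheafCompose (Opens.grothendieckTopology S)
        (forget₂ CommRingCat.{u} RingCat.{u})).obj B))

/-- The map on sections over an open. -/
noncomputable def appHom (U : S.Opens) : Γ(S, U) →+* B.obj.obj (op U) := (φ.hom.app (op U)).hom

/-- Restriction of sections of `B`. -/
noncomputable def resB {U V : S.Opens} (h : V ≤ U) : B.obj.obj (op U) →+* B.obj.obj (op V) :=
  (B.obj.map (homOfLE h).op).hom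

theorem modOf_smul (U : S.Opens) (r : Γ(S, U)) (m : Γ(modOf B φ, U)) :
    (r • m : Γ(modOf B φ, U)) = (appHom B φ U r * (show (B.obj.obj (op U)) from m) :
      B.obj.obj (op U)) := rfl

theorem modOf_res {U V : S.Opens} (h : V ≤ U) (m : Γ(modOf B φ, U)) :
    QC2.res (modOf B φ) h m = resB B h (show (B.obj.obj (op U)) from m) := rfl

theorem resB_appHom {U V : S.Opens} (h : V ≤ U) (r : Γ(S, U)) :
    resB B h (appHom B φ U r) = appHom B φ V (QC2.resR h r) :=
  (congr($(φ.hom.naturality (homOfLE h).op) r)).symm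

/-- The ring functor on the small affine Zariski site. -/
abbrev aff : S.AffineZariskiSiteᵒᵖ ⥤ CommRingCat.{u} := (toOpensFunctor S).op ⋙ B.obj

/-- The structure map on the small affine Zariski site. -/
abbrev affα : (toOpensFunctor S).op ⋙ S.presheaf ⟶ aff B :=
  Functor.whiskerLeft (toOpensFunctor S).op φ.hom

theorem isLocalization (hB : Coh.IsQCoh (modOf B φ)) {U : S.Opens} (hU : IsAffineOpen U)
    (f : Γ(S, U)) :
    letI := (resB B (S.basicOpen_le f)).toAlgebra
    IsLocalization.Away (appHom B φ U f) (B.obj.obj (op (S.basicOpen f))) := by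
  let _ := (resB B (S.basicOpen_le f)).toAlgebra
  have hL : QC2.Loc (modOf B φ) U := QC2.loc_of_isQuasicoherent _ hU
  have hu : IsUnit (S.presheaf.map (homOfLE (S.basicOpen_le f)).op f) :=
    RingedSpace.isUnit_res_basicOpen _ f
  refine (isLocalization_iff _ _).2 ⟨?_, ?_, ?_⟩
  · rintro ⟨_, n, rfl⟩
    change IsUnit (resB B (S.basicOpen_le f) ((appHom B φ U f) ^ n))
    rw [map_pow, resB_appHom]
    exact ((hu.map (appHom B φ (S.basicOpen f))).pow n)
  · intro z
    obtain ⟨n, t, ht⟩ := hL.exists_lift f z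
    refine ⟨⟨t, ⟨_, n, rfl⟩⟩, ?_⟩
    change z * resB B (S.basicOpen_le f) ((appHom B φ U f) ^ n) = resB B (S.basicOpen_le f) t
    rw [map_pow, resB_appHom, ← map_pow, mul_comm]
    exact ht.symm
  · intro x y hxy
    have h0 : resB B (S.basicOpen_le f) (x - y) = 0 := by
      rw [map_sub, sub_eq_zero]
      exact hxy
    obtain ⟨n, hn⟩ := hL.eq_zero f (x - y : B.obj.obj (op U)) h0
    refine ⟨⟨_, n, rfl⟩, ?_⟩
    change (appHom B φ U f) ^ n * x = (appHom B φ U f) ^ n * y
    have hn' : appHom B φ U (f ^ n) * (x - y) = 0 := hn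
    rwa [map_pow, mul_sub, sub_eq_zero] at hn'

/-- The structure map of a quasi-coherent algebra is coequifibered. -/
theorem coequifibered (hB : Coh.IsQCoh (modOf B φ)) : (affα B φ).Coequifibered := by
  rw [coequifibered_iff_forall_isLocalizationAway]
  intro U f
  exact isLocalization B φ hB U.2 f

section Iso

variable {F : S.AffineZariskiSiteᵒᵖ ⥤ CommRingCat.{u}}
  {α : (toOpensFunctor S).op ⋙ S.presheaf ⟶ F} (H : α.Coequifibered)

theorem top_le (U : S.AffineZariskiSite) :
    ⊤ ≤ RelSpec.ι H U ⁻¹ᵁ (RelSpec.toBase H ⁻¹ᵁ U.toOpens) := by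
  rw [RelSpec.preimage]
  simp

/-- Sections of the structure sheaf of the relative spectrum over the preimage of an affine
open. -/
noncomputable def secHom (U : S.AffineZariskiSite) :
    Γ(RelSpec.obj H, RelSpec.toBase H ⁻¹ᵁ U.toOpens) ⟶ F.obj (op U) :=
  (RelSpec.ι H U).appLE (RelSpec.toBase H ⁻¹ᵁ U.toOpens) ⊤ (top_le H U) ≫
    (Scheme.ΓSpecIso (F.obj (op U))).hom

instance isIso_secHom (U : S.AffineZariskiSite) : IsIso (secHom H U) := by
  have h1 : IsIso ((RelSpec.ι H U).app (RelSpec.toBase H ⁻¹ᵁ U.toOpens)) :=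
    (RelSpec.ι H U).isIso_app _ (by rw [RelSpec.preimage])
  have h2 : IsIso (homOfLE (top_le H U)) := ⟨homOfLE le_top, rfl, rfl⟩
  have h3 : IsIso ((RelSpec.ι H U).appLE (RelSpec.toBase H ⁻¹ᵁ U.toOpens) ⊤ (top_le H U)) := by
    unfold Scheme.Hom.appLE
    infer_instance
  unfold secHom
  infer_instance

theorem appLE_congr_hom {X Y : Scheme.{u}} {f g : X ⟶ Y} (h : f = g) (U : Y.Opens) (V : X.Opens)
    (e : V ≤ f ⁻¹ᵁ U) : f.appLE U V e = g.appLE U V (h ▸ e) := by
  subst h
  rfl

theorem fromSpec_appLE_top {U : S.Opens} (hU : IsAffineOpen U) :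
    hU.fromSpec.appLE U ⊤ (by rw [hU.fromSpec_preimage_self]) = (Scheme.ΓSpecIso Γ(S, U)).inv := by
  rw [Scheme.Hom.appLE, hU.fromSpec_app_self, Category.assoc, ← Functor.map_comp]
  exact (congrArg (fun t => (Scheme.ΓSpecIso Γ(S, U)).inv ≫ t)
    ((Spec Γ(S, U)).presheaf.map_id _)).trans (Category.comp_id _)

theorem app_secHom (U : S.AffineZariskiSite) :
    (RelSpec.toBase H).app U.toOpens ≫ secHom H U = RelSpec.str α U := by
  unfold secHom
  rw [← Category.assoc, ← Scheme.Hom.appLE_eq_app, Scheme.Hom.appLE_comp_appLE,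
    appLE_congr_hom (RelSpec.ι_toBase H U),
    ← Scheme.Hom.appLE_comp_appLE _ _ U.toOpens ⊤ ⊤
      (by rw [(RelSpec.isAff U).fromSpec_preimage_self]) le_top,
    fromSpec_appLE_top, Category.assoc]
  have h : (Spec.map (RelSpec.str α U)).appLE ⊤ ⊤ le_top =
    (Spec.map (RelSpec.str α U)).appTop := Scheme.Hom.appLE_eq_app _
  rw [h, Scheme.ΓSpecIso_naturality, Iso.inv_hom_id_assoc]

theorem secHom_naturality {U V : S.AffineZariskiSite} (i : U ⟶ V) :
    (RelSpec.obj H).presheaf.map (homOfLE ((RelSpec.toBase H).preimage_mono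
      (toOpens_mono i.le))).op ≫ secHom H U = secHom H V ≫ F.map i.op := by
  unfold secHom
  rw [← Category.assoc, Scheme.Hom.map_appLE, Category.assoc]
  have h1 := appLE_congr_hom (RelSpec.ι_map H i).symm (RelSpec.toBase H ⁻¹ᵁ V.toOpens) ⊤
    ((top_le H U).trans ((RelSpec.ι H U).preimage_mono
      ((RelSpec.toBase H).preimage_mono (toOpens_mono i.le))))
  have h2 : (Spec.map (F.map i.op)).appLE ⊤ ⊤ le_top =
    (Spec.map (F.map i.op)).appTop := Scheme.Hom.appLE_eq_app _
  have h3 := Scheme.Hom.appLE_comp_appLE (Spec.map (F.map i.op)) (RelSpec.ι H V)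
    (RelSpec.toBase H ⁻¹ᵁ V.toOpens) ⊤ ⊤ (top_le H V) le_top
  have h4 := Scheme.ΓSpecIso_naturality (F.map i.op)
  refine (congrArg (fun t => t ≫ (Scheme.ΓSpecIso (F.obj (op U))).hom)
    (h1.trans h3.symm)).trans ?_
  rw [h2, Category.assoc, h4]

/-- The direct image of the structure sheaf of the relative spectrum, on affine opens. -/
noncomputable def secIso :
    (toOpensFunctor S).op ⋙
    ((TopCat.Sheaf.pushforward CommRingCat.{u} (RelSpec.toBase H).base).obj
      (RelSpec.obj H).sheaf).obj ≅ F :=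
  NatIso.ofComponents (fun U => @asIso _ _ _ _ (secHom H U.unop) (isIso_secHom H U.unop))
    (fun i => secHom_naturality H i.unop)

theorem c_secIso :
    Functor.whiskerLeft (toOpensFunctor S).op (RelSpec.toBase H).c ≫ (secIso H).hom = α := by
  refine NatTrans.ext (funext fun U => ?_)
  exact app_secHom H U.unop

end Iso

/-- A quasi-coherent algebra is the direct image of the structure sheaf of its relative
spectrum. -/
noncomputable def algIso (H : (affα B φ).Coequifibered) :
    B ≅ (TopCat.Sheaf.pushforward CommRingCat.{u} (RelSpec.toBase H).base).obj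
      (RelSpec.obj H).sheaf :=
  Functor.IsCoverDense.sheafIso (G := toOpensFunctor S) (secIso H).symm

theorem whiskerLeft_algIso_hom (H : (affα B φ).Coequifibered) :
    Functor.whiskerLeft (toOpensFunctor S).op (algIso B φ H).hom.hom = (secIso H).inv :=
  Functor.IsCoverDense.sheafHom_restrict_eq (secIso H).inv

theorem comp_algIso_hom (H : (affα B φ).Coequifibered) :
    (φ ≫ (algIso B φ H).hom).hom = (RelSpec.toBase H).c := by
  apply (Functor.IsCoverDense.restrictHomEquivHom (G := toOpensFunctor S)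
    (K := Opens.grothendieckTopology S)
    (ℱ' := (TopCat.Sheaf.pushforward CommRingCat.{u} (RelSpec.toBase H).base).obj
      (RelSpec.obj H).sheaf)).symm.injective
  change affα B φ ≫ Functor.whiskerLeft (toOpensFunctor S).op (algIso B φ H).hom.hom =
    Functor.whiskerLeft (toOpensFunctor S).op (RelSpec.toBase H).c
  rw [whiskerLeft_algIso_hom]
  exact (Iso.comp_inv_eq (secIso H)).2 (c_secIso H).symm

/-- A quasi-coherent algebra is the direct image of the structure sheaf of its relative
spectrum. -/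
theorem exists_relSpec (hB : Coh.IsQCoh (modOf B φ)) :
    ∃ (X : Scheme.{u}) (f : X ⟶ S) (_ : IsAffineHom f)
      (e : B ≅ (TopCat.Sheaf.pushforward CommRingCat.{u} f.base).obj X.sheaf),
      (φ ≫ e.hom).hom = f.c :=
  have H := coequifibered B φ hB
  ⟨RelSpec.obj H, RelSpec.toBase H, RelSpec.isAffineHom_toBase H, algIso B φ H,
    comp_algIso_hom B φ H⟩

end Groth.Agent.Ega2.H280.RelSpecAlg
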